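import Cfsg.Agent.Functor.Fusion

/-!
A finite group in which every 2-element centralizes a Sylow 2-subgroup has abelian Sylow
2-subgroups (Camina–Herzog).

Route: no element of order at least 3 of a Sylow 2-subgroup `S` is inverted inside `S` by an
element, so the elements of exponent 2 of `S` form an abelian subgroup `Ω`, which is strongly
closed; a downward induction over extremal subgroups shows that `N(Ω)` controls fusion in `S`;
hence `Ω ≤ Z(S)`, the hypothesis passes to `C(Ω)` and to its quotient by `Ω`, and Burnside's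
lemma finishes the induction on the group order.
-/

set_option autoImplicit false

namespace CfsgLib.CentralConj

open Subgroup CfsgLib.Functor
open scoped CfsgLib.Functor

universe u

variable {G : Type u} [Group G]

/-- Every element of 2-power order centralizes a Sylow 2-subgroup. -/
def Hyp (G : Type u) [Group G] : Prop :=
  ∀ x : G, (∃ k : ℕ, orderOf x = 2 ^ k) → ∃ Q : Sylow 2 G,
    (Q : Subgroup G) ≤ centralizer ({x} : Set G)

theorem exists_pow_of_mem (S : Sylow 2 G) [Finite G] {x : G} (hx : x ∈ (S : Subgroup G)) :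
    ∃ k : ℕ, orderOf x = 2 ^ k := by
  obtain ⟨k, hk⟩ := IsPGroup.iff_orderOf.1 S.2 ⟨x, hx⟩
  exact ⟨k, by rwa [Subgroup.orderOf_mk] at hk⟩

theorem inv_eq_of_inverted [Finite G] (h : Hyp G) {w a : G} (hw : ∃ k : ℕ, orderOf w = 2 ^ k)
    (ha : a * w * a⁻¹ = w⁻¹) : w * w = 1 := by
  by_contra hne
  obtain ⟨Q, hQ⟩ := h w hw
  let C : Subgroup G := centralizer ({w} : Set G)
  let H : Subgroup G :=
    { carrier := {g | g * w * g⁻¹ = w ∨ g * w * g⁻¹ = w⁻¹}
      one_mem' := Or.inl (by simp)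
      mul_mem' := by
        intro x y hx hy
        have e : x * y * w * (x * y)⁻¹ = x * (y * w * y⁻¹) * x⁻¹ := by group
        rcases hy with hy | hy <;> rcases hx with hx | hx
        · exact Or.inl (by rw [e, hy, hx])
        · exact Or.inr (by rw [e, hy, hx])
        · exact Or.inr (by rw [e, hy, ← conj_inv, hx])
        · exact Or.inl (by rw [e, hy, ← conj_inv, hx, inv_inv])
      inv_mem' := by
        intro x hx
        rcases hx with hx | hx
        · left
          conv_lhs => arg 1; arg 2; rw [← hx]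
          group
        · right
          have hx' : w = (x * w * x⁻¹)⁻¹ := by rw [hx, inv_inv]
          conv_lhs => arg 1; arg 2; rw [hx']
          group }
  have hCH : C ≤ H := fun g hg => Or.inl (by
    rw [mem_centralizer_singleton_iff.1 hg, mul_inv_cancel_right])
  have haH : a ∈ H := Or.inr ha
  have mem_C : ∀ g : G, g * w * g⁻¹ = w → g ∈ C := fun g hg =>
    mem_centralizer_singleton_iff.2 (mul_inv_eq_iff_eq_mul.1 hg)
  have hidx : C.relIndex H = 2 := by
    rw [relIndex, index_eq_two_iff]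
    refine ⟨⟨a, haH⟩, fun b => ?_⟩
    simp only [mem_subgroupOf, coe_mul]
    have e : (b : G) * a * w * ((b : G) * a)⁻¹ = ((b : G) * w * (b : G)⁻¹)⁻¹ := by
      calc (b : G) * a * w * ((b : G) * a)⁻¹ = (b : G) * (a * w * a⁻¹) * (b : G)⁻¹ := by group
        _ = ((b : G) * w * (b : G)⁻¹)⁻¹ := by rw [ha, ← conj_inv]
    rcases b.2 with hb | hb
    · refine Or.inr ⟨mem_C _ hb, fun hc => hne ?_⟩
      have h1 := mem_centralizer_singleton_iff.1 hc
      rw [← mul_inv_eq_iff_eq_mul, e, hb] at h1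
      calc w * w = w⁻¹ * w := by rw [h1]
        _ = 1 := inv_mul_cancel w
    · refine Or.inl ⟨mem_C _ (by rw [e, hb, inv_inv]), fun hc => hne ?_⟩
      have h1 := mem_centralizer_singleton_iff.1 hc
      rw [← mul_inv_eq_iff_eq_mul, hb] at h1
      calc w * w = w⁻¹ * w := by rw [h1]
        _ = 1 := inv_mul_cancel w
  have hdvd : Nat.card (Q : Subgroup G) * 2 ∣ Nat.card (Q : Subgroup G) * (Q : Subgroup G).index := by
    rw [card_mul_index]
    have h2 : Nat.card C * 2 = Nat.card H := by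
      rw [← hidx, relIndex, ← Nat.card_congr (subgroupOfEquivOfLe hCH).toEquiv, card_mul_index]
    refine Dvd.dvd.trans ?_ (card_subgroup_dvd_card H)
    rw [← h2]
    exact Nat.mul_dvd_mul_right (card_dvd_of_le hQ) 2
  exact Q.not_dvd_index (Nat.dvd_of_mul_dvd_mul_left Nat.card_pos hdvd)

theorem commute_of_involutions [Finite G] (h : Hyp G) (S : Sylow 2 G) {a b : G}
    (ha : a ∈ (S : Subgroup G)) (hb : b ∈ (S : Subgroup G)) (ha2 : a * a = 1) (hb2 : b * b = 1) :
    a * b = b * a := by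
  have hai : a⁻¹ = a := inv_eq_of_mul_eq_one_right ha2
  have hbi : b⁻¹ = b := inv_eq_of_mul_eq_one_right hb2
  have hw := inv_eq_of_inverted h (exists_pow_of_mem S (mul_mem ha hb)) (a := a) (by
    rw [mul_inv_rev, hai, hbi]
    calc a * (a * b) * a = (a * a) * b * a := by simp only [mul_assoc]
      _ = b * a := by rw [ha2, one_mul])
  calc a * b = (a * b)⁻¹ := (inv_eq_of_mul_eq_one_right hw).symm
    _ = b * a := by rw [mul_inv_rev, hai, hbi]

/-- The elements of exponent 2 of `S`. -/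
def omegaS [Finite G] (h : Hyp G) (S : Sylow 2 G) : Subgroup G where
  carrier := {x | x ∈ (S : Subgroup G) ∧ x * x = 1}
  one_mem' := ⟨one_mem _, one_mul 1⟩
  mul_mem' := fun {a b} ha hb => ⟨mul_mem ha.1 hb.1, by
    rw [mul_assoc, ← mul_assoc b, ← commute_of_involutions h S ha.1 hb.1 ha.2 hb.2, mul_assoc a b,
      hb.2, mul_one, ha.2]⟩
  inv_mem' := fun {a} ha => ⟨inv_mem ha.1, by rw [← mul_inv_rev, ha.2, inv_one]⟩

section

variable [Finite G] (h : Hyp G) (S : Sylow 2 G)

include h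

theorem omegaS_le : omegaS h S ≤ (S : Subgroup G) := fun _ hx => hx.1

theorem omegaS_comm {a b : G} (ha : a ∈ omegaS h S) (hb : b ∈ omegaS h S) : a * b = b * a :=
  commute_of_involutions h S ha.1 hb.1 ha.2 hb.2

omit h in
omit [Finite G] in
theorem conj_sq {g x : G} (hx : x * x = 1) : g * x * g⁻¹ * (g * x * g⁻¹) = 1 := by
  calc g * x * g⁻¹ * (g * x * g⁻¹) = g * (x * x) * g⁻¹ := by group
    _ = 1 := by rw [hx, mul_one, mul_inv_cancel]

theorem mem_normalizer_omegaS {g : G} {A : Subgroup G} (hΩ : omegaS h S ≤ A)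
    (hg : g ⋆ A ≤ (S : Subgroup G)) : g ∈ normalizer (omegaS h S : Set G) := by
  rw [mem_normalizer_iff_cj]
  refine eq_of_le_of_card_le' (cj_le_iff.2 fun x hx => ?_) (card_cj g _).ge
  exact ⟨hg (conj_mem_cj (hΩ hx)), conj_sq hx.2⟩

theorem sylow_le_normalizer_omegaS : (S : Subgroup G) ≤ normalizer (omegaS h S : Set G) :=
  fun _ hs => mem_normalizer_omegaS h S (omegaS_le h S) (cj_eq_self_of_mem hs).le

/-- `g` agrees on `A` with some element normalizing `Ω`. -/
def Ctl (A : Subgroup G) (g : G) : Prop :=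
  ∃ m ∈ normalizer (omegaS h S : Set G), ∀ y ∈ A, g * y * g⁻¹ = m * y * m⁻¹

theorem Ctl.mono {A B : Subgroup G} {g : G} (hAB : A ≤ B) (hB : Ctl h S B g) : Ctl h S A g := by
  obtain ⟨m, hm, he⟩ := hB
  exact ⟨m, hm, fun y hy => he y (hAB hy)⟩

theorem Ctl.comp {A : Subgroup G} {g k : G} (hA : Ctl h S A g) (hk : Ctl h S (g ⋆ A) k) :
    Ctl h S A (k * g) := by
  obtain ⟨m, hm, he⟩ := hA
  obtain ⟨m', hm', he'⟩ := hk
  refine ⟨m' * m, mul_mem hm' hm, fun y hy => ?_⟩
  calc k * g * y * (k * g)⁻¹ = k * (g * y * g⁻¹) * k⁻¹ := by group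
    _ = m' * (g * y * g⁻¹) * m'⁻¹ := he' _ (conj_mem_cj hy)
    _ = m' * m * y * (m' * m)⁻¹ := by rw [he y hy]; group

theorem Ctl.inv {A : Subgroup G} {g : G} (hA : Ctl h S A g) : Ctl h S (g ⋆ A) g⁻¹ := by
  obtain ⟨m, hm, he⟩ := hA
  refine ⟨m⁻¹, inv_mem hm, fun z hz => ?_⟩
  have h1 := he _ (mem_cj.1 hz)
  have h2 : z = m * (g⁻¹ * z * g) * m⁻¹ := by rw [← h1]; group
  calc g⁻¹ * z * g⁻¹⁻¹ = m⁻¹ * (m * (g⁻¹ * z * g) * m⁻¹) * m := by group
    _ = m⁻¹ * z * m⁻¹⁻¹ := by rw [← h2, inv_inv]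

theorem ctl_aux (d : ℕ) : ∀ (A : Subgroup G) (g : G), A ≤ (S : Subgroup G) →
    g ⋆ A ≤ (S : Subgroup G) → Nat.card (S : Subgroup G) ≤ d + Nat.card A → Ctl h S A g := by
  induction d using Nat.strong_induction_on with
  | _ d ih =>
    intro A g hA hg hd
    -- the induction hypothesis
    have IH : ∀ (B : Subgroup G) (k : G), B ≤ (S : Subgroup G) → k ⋆ B ≤ (S : Subgroup G) →
        Nat.card A < Nat.card B → Ctl h S B k := fun B k hB hk hlt => by
      have hc : Nat.card B ≤ Nat.card (S : Subgroup G) := card_le_of_le hB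
      exact ih (Nat.card (S : Subgroup G) - Nat.card B) (by omega) B k hB hk (by omega)
    by_cases hΩA : omegaS h S ≤ A
    · exact ⟨g, mem_normalizer_omegaS h S hΩA hg, fun _ _ => rfl⟩
    have hAlt : A < (S : Subgroup G) :=
      lt_of_le_of_ne hA fun he => hΩA (he ▸ omegaS_le h S)
    have grow : ∀ {B : Subgroup G}, B < (S : Subgroup G) →
        Nat.card B < Nat.card ↥((S : Subgroup G) ⊓ normalizer (B : Set G)) := fun {B} hB => by
      have hlt := lt_inf_normalizer S.2 hB
      rcases (card_le_of_le hlt.le).lt_or_eq with h1 | h1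
      · exact h1
      · exact absurd (eq_of_le_of_card_le' hlt.le h1.ge) hlt.ne
    obtain ⟨a, haA, haN, hext⟩ := exists_extremal S hA
    -- move `A` to the extremal conjugate `B`
    have c1 : Ctl h S A a := (IH _ a inf_le_left haN (grow hAlt)).mono h S (le_inf hA le_normalizer)
    set B := a ⋆ A with hB
    have hcB : Nat.card B = Nat.card A := card_cj a A
    have hgAlt : g ⋆ A < (S : Subgroup G) :=
      lt_of_le_of_ne hg fun he => hAlt.ne (eq_of_le_of_card_le' hA
        (by rw [← he, card_cj]))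
    have hh' : (a * g⁻¹) ⋆ (g ⋆ A) = B := by rw [cj_cj, inv_mul_cancel_right]
    obtain ⟨n, hn, hnB, hnle⟩ := exists_cj_normalizer_le S hext hh'
    have c2 : Ctl h S (g ⋆ A) (n * (a * g⁻¹)) :=
      (IH _ _ inf_le_left hnle ((card_cj g A).symm.trans_lt (grow hgAlt))).mono h S
        (le_inf hg le_normalizer)
    -- it remains to treat an element normalizing the extremal subgroup `B`
    suffices c3 : Ctl h S B n by
      have c2' := c2.inv h S
      rw [hnB] at c2'
      have c4 := (c1.comp h S c3).comp h S (k := (n * (a * g⁻¹))⁻¹) (by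
        rw [← cj_cj n a, ← hB, mem_normalizer_iff_cj.1 hn]; exact c2')
      have e : (n * (a * g⁻¹))⁻¹ * (n * a) = g := by group
      rwa [e] at c4
    by_cases hΩB : omegaS h S ≤ B
    · exact ⟨n, mem_normalizer_omegaS h S hΩB
        ((mem_normalizer_iff_cj.1 hn).le.trans haA), fun _ _ => rfl⟩
    set W := omegaS h S ⊓ B with hW
    have hWconj : ∀ x ∈ normalizer (B : Set G), ∀ w ∈ W, x * w * x⁻¹ ∈ W := fun x hx w hw =>
      have hxw : x * w * x⁻¹ ∈ B := (mem_normalizer_iff.1 hx w).1 hw.2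
      ⟨⟨haA hxw, conj_sq hw.1.2⟩, hxw⟩
    -- the elements acting trivially on `W` and on `B / W`
    let K : Subgroup G :=
      { carrier := {x | x ∈ normalizer (B : Set G) ∧ (∀ w ∈ W, x * w * x⁻¹ = w) ∧
          ∀ b ∈ B, b⁻¹ * (x * b * x⁻¹) ∈ W}
        one_mem' := ⟨one_mem _, fun w _ => by group, fun b _ => by
          simp only [one_mul, inv_one, mul_one, inv_mul_cancel]; exact one_mem _⟩
        mul_mem' := by
          intro x y hx hy
          refine ⟨mul_mem hx.1 hy.1, fun w hw => ?_, fun b hb => ?_⟩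
          · calc x * y * w * (x * y)⁻¹ = x * (y * w * y⁻¹) * x⁻¹ := by group
              _ = w := by rw [hy.2.1 w hw, hx.2.1 w hw]
          · have h1 := hy.2.2 b hb
            have h2 := hx.2.2 b hb
            have e : b⁻¹ * (x * y * b * (x * y)⁻¹) =
                (b⁻¹ * (x * b * x⁻¹)) * (x * (b⁻¹ * (y * b * y⁻¹)) * x⁻¹) := by group
            rw [e, hx.2.1 _ h1]
            exact mul_mem h2 h1
        inv_mem' := by
          intro x hx
          have hfix : ∀ w ∈ W, x⁻¹ * w * x⁻¹⁻¹ = w := fun w hw => by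
            conv_lhs => arg 1; arg 2; rw [← hx.2.1 w hw]
            group
          refine ⟨inv_mem hx.1, hfix, fun b hb => ?_⟩
          have h1 := inv_mem (hx.2.2 b hb)
          have e : b⁻¹ * (x⁻¹ * b * x⁻¹⁻¹) = x⁻¹ * (x * b⁻¹ * x⁻¹ * b) * x⁻¹⁻¹ := by group
          have e' : x * b⁻¹ * x⁻¹ * b = (b⁻¹ * (x * b * x⁻¹))⁻¹ := by group
          rw [e, e', hfix _ h1]
          exact h1 }
    have hKN : K ≤ normalizer (B : Set G) := fun x hx => hx.1
    have hKnorm : normalizer (B : Set G) ≤ normalizer (K : Set G) := by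
      intro x hx
      have key : ∀ x ∈ normalizer (B : Set G), ∀ k ∈ K, x * k * x⁻¹ ∈ K := by
        intro x hx k hk
        refine ⟨mul_mem (mul_mem hx hk.1) (inv_mem hx), fun w hw => ?_, fun b hb => ?_⟩
        · have h1 := hk.2.1 _ (hWconj _ (inv_mem hx) w hw)
          calc x * k * x⁻¹ * w * (x * k * x⁻¹)⁻¹
              = x * (k * (x⁻¹ * w * x⁻¹⁻¹) * k⁻¹) * x⁻¹ := by group
            _ = w := by rw [h1]; group
        · have hb' : x⁻¹ * b * x⁻¹⁻¹ ∈ B := (mem_normalizer_iff.1 (inv_mem hx) b).1 hb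
          have h1 := hWconj x hx _ (hk.2.2 _ hb')
          have e : b⁻¹ * (x * k * x⁻¹ * b * (x * k * x⁻¹)⁻¹) =
              x * ((x⁻¹ * b * x⁻¹⁻¹)⁻¹ * (k * (x⁻¹ * b * x⁻¹⁻¹) * k⁻¹)) * x⁻¹ := by group
          rw [e]; exact h1
      rw [mem_normalizer_iff]
      refine fun k => ⟨key x hx k, fun hk => ?_⟩
      have := key x⁻¹ (inv_mem hx) _ hk
      simpa [mul_assoc] using this
    set D0 := ((S : Subgroup G) ⊓ normalizer (B : Set G)) ⊓ K with hD0
    have hD0K : IsSylowIn 2 D0 K := (hext.sylowIn S.2).inf_normal hKN hKnorm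
    set D := D0 ⊔ B with hD
    have hDS : D ≤ (S : Subgroup G) := sup_le (inf_le_left.trans inf_le_left) haA
    -- `D` is larger than `B`
    have hgrow : Nat.card A < Nat.card D := by
      rw [← hcB]
      have hlt : B < omegaS h S ⊔ B := lt_of_le_of_ne le_sup_right fun he =>
        hΩB (le_sup_left.trans he.ge)
      have hsup : omegaS h S ⊔ B ≤ (S : Subgroup G) := sup_le (omegaS_le h S) haA
      have hlt' := lt_inf_normalizer (S.2.to_le hsup) hlt
      obtain ⟨y, ⟨hy, hyN⟩, hyB⟩ := SetLike.exists_of_lt hlt'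
      have hy' : y ∈ ((omegaS h S ⊔ B : Subgroup G) : Set G) := hy
      rw [coe_mul_of_right_le_normalizer_left (omegaS h S) B
        (haA.trans (sylow_le_normalizer_omegaS h S))] at hy'
      obtain ⟨e, he, b, hb, rfl⟩ := hy'
      replace hyN : e * b ∈ normalizer (B : Set G) := hyN
      replace he : e ∈ omegaS h S := he
      replace hb : b ∈ B := hb
      have heN : e ∈ normalizer (B : Set G) := by
        simpa using mul_mem hyN (inv_mem (le_normalizer hb : b ∈ normalizer (B : Set G)))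
      have heB : e ∉ B := fun h' => hyB (mul_mem h' hb)
      have heK : e ∈ K := ⟨heN, fun w hw => by
        rw [omegaS_comm h S he hw.1, mul_inv_cancel_right], fun c hc => by
        have h1 : e * c * e⁻¹ ∈ B := (mem_normalizer_iff.1 heN c).1 hc
        refine ⟨?_, B.mul_mem (B.inv_mem hc) h1⟩
        have h2 : c⁻¹ * e * c⁻¹⁻¹ ∈ omegaS h S :=
          (mem_normalizer_iff.1 (sylow_le_normalizer_omegaS h S (inv_mem (haA hc))) e).1 he
        have e' : c⁻¹ * (e * c * e⁻¹) = (c⁻¹ * e * c⁻¹⁻¹) * e⁻¹ := by group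
        rw [e']; exact (omegaS h S).mul_mem h2 ((omegaS h S).inv_mem he)⟩
      have heD : e ∈ D := le_sup_left (α := Subgroup G) ⟨⟨he.1, heN⟩, heK⟩
      rcases (card_le_of_le (le_sup_right : B ≤ D)).lt_or_eq with h1 | h1
      · exact h1
      · exact absurd (eq_of_le_of_card_le' le_sup_right h1.ge ▸ heD) heB
    -- Frattini argument in `K`
    have hnK : IsSylowIn 2 (n ⋆ D0) K := by
      have := hD0K.cj n
      rwa [mem_normalizer_iff_cj.1 (hKnorm hn)] at this
    obtain ⟨k, hk, hkD⟩ := hD0K.exists_cj_eq hnK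
    have hknB : k * n ∈ normalizer (B : Set G) := mul_mem (hKN hk) hn
    have hcD : (k * n) ⋆ D = D := by
      rw [hD, Subgroup.map_sup, ← cj_cj, hkD, mem_normalizer_iff_cj.1 hknB]
    have c5 : Ctl h S B (k * n) :=
      (IH D _ hDS (hcD.le.trans hDS) hgrow).mono h S le_sup_right
    -- `k⁻¹` acts on `B` as an element of `D0`
    have ck : ∀ k ∈ K, Ctl h S B k := by
      intro k hk
      let C0 : Subgroup G := D0 ⊔ (centralizer (B : Set G) ⊓ K)
      have hC0K : C0 ≤ K := sup_le hD0K.le inf_le_right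
      have hsq : ∀ x ∈ K, x * x ∈ centralizer (B : Set G) ⊓ K := fun x hx => by
        refine ⟨mem_centralizer_iff.2 fun b hb => ?_, mul_mem hx hx⟩
        have hc := hx.2.2 b hb
        have hcc : b⁻¹ * (x * b * x⁻¹) * (b⁻¹ * (x * b * x⁻¹)) = 1 := hc.1.2
        have h1 : x * (x * b * x⁻¹) * x⁻¹ = b := by
          calc x * (x * b * x⁻¹) * x⁻¹
              = (x * b * x⁻¹) * (x * (b⁻¹ * (x * b * x⁻¹)) * x⁻¹) := by group
            _ = (x * b * x⁻¹) * (b⁻¹ * (x * b * x⁻¹)) := by rw [hx.2.1 _ hc]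
            _ = b * (b⁻¹ * (x * b * x⁻¹) * (b⁻¹ * (x * b * x⁻¹))) := by group
            _ = b := by rw [hcc, mul_one]
        calc b * (x * x) = x * (x * b * x⁻¹) * x⁻¹ * (x * x) := by rw [h1]
          _ = x * x * b := by group
      -- the index of `C0` in `K` is odd, and squares lie in it
      have hn0 : (C0.subgroupOf K).Normal := by
        refine ⟨fun c hc x => ?_⟩
        rw [mem_subgroupOf] at hc ⊢
        have h1 : (x : G) * c * (x : G)⁻¹ =
            ((x : G) * (x : G)) * (((x : G)⁻¹ * c) * ((x : G)⁻¹ * c)) * (c : G)⁻¹ := by group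
        simp only [coe_mul, coe_inv]
        rw [h1]
        exact mul_mem (mul_mem (le_sup_right (α := Subgroup G) (hsq _ x.2))
          (le_sup_right (α := Subgroup G) (hsq _ (mul_mem (inv_mem x.2) c.2)))) (inv_mem hc)
      have hodd : ¬ 2 ∣ (C0.subgroupOf K).index := fun hd =>
        hD0K.2.2 (hd.trans (Dvd.intro_left _
          (relIndex_mul_relIndex D0 C0 K le_sup_left hC0K)))
      have hkC : k ∈ C0 := by
        have h1 := orderOf_dvd_natCard (QuotientGroup.mk' (C0.subgroupOf K) ⟨k, hk⟩)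
        rw [← index_eq_card] at h1
        have h2 : orderOf (QuotientGroup.mk' (C0.subgroupOf K) ⟨k, hk⟩) ∣ 2 :=
          orderOf_dvd_of_pow_eq_one (by
            rw [← map_pow, QuotientGroup.mk'_apply, QuotientGroup.eq_one_iff, mem_subgroupOf,
              SubgroupClass.coe_pow, pow_two]
            exact le_sup_right (α := Subgroup G) (hsq k hk))
        rcases (Nat.dvd_prime Nat.prime_two).1 h2 with h3 | h3
        · rw [orderOf_eq_one_iff, QuotientGroup.mk'_apply, QuotientGroup.eq_one_iff] at h3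
          exact h3
        · exact absurd (h3 ▸ h1) hodd
      have hnd : D0 ≤ normalizer ((centralizer (B : Set G) ⊓ K : Subgroup G) : Set G) := by
        intro d hd
        have hdB : d ∈ normalizer (B : Set G) := hd.1.2
        have key : ∀ d ∈ normalizer (B : Set G), ∀ c ∈ centralizer (B : Set G) ⊓ K,
            d * c * d⁻¹ ∈ centralizer (B : Set G) ⊓ K := fun d hd c hc => by
          refine ⟨mem_centralizer_iff.2 fun b hb => ?_, (mem_normalizer_iff.1 (hKnorm hd) c).1 hc.2⟩
          have hb' : d⁻¹ * b * d⁻¹⁻¹ ∈ B := (mem_normalizer_iff.1 (inv_mem hd) b).1 hb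
          have h4 := mem_centralizer_iff.1 hc.1 _ hb'
          calc b * (d * c * d⁻¹) = d * ((d⁻¹ * b * d⁻¹⁻¹) * c) * d⁻¹ := by group
            _ = d * c * d⁻¹ * b := by rw [h4]; group
        rw [mem_normalizer_iff]
        refine fun c => ⟨key d hdB c, fun hc => ?_⟩
        simpa [mul_assoc] using key d⁻¹ (inv_mem hdB) _ hc
      have hkC' : k ∈ ((C0 : Subgroup G) : Set G) := hkC
      rw [coe_mul_of_left_le_normalizer_right D0 _ hnd] at hkC'
      obtain ⟨d, hd, c, hc, rfl⟩ := hkC'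
      refine ⟨d, sylow_le_normalizer_omegaS h S hd.1.1, fun y hy => ?_⟩
      have h5 : c * y * c⁻¹ = y := by
        rw [← mem_centralizer_iff.1 hc.1 y hy, mul_inv_cancel_right]
      calc d * c * y * (d * c)⁻¹ = d * (c * y * c⁻¹) * d⁻¹ := by group
        _ = d * y * d⁻¹ := by rw [h5]
    have c6 := c5.comp h S (k := k⁻¹) (by
      rw [mem_normalizer_iff_cj.1 hknB]; exact ck _ (inv_mem hk))
    rwa [inv_mul_cancel_left] at c6

theorem ctl {A : Subgroup G} {g : G} (hA : A ≤ (S : Subgroup G)) (hg : g ⋆ A ≤ (S : Subgroup G)) :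
    Ctl h S A g :=
  ctl_aux h S (Nat.card (S : Subgroup G)) A g hA hg (Nat.le_add_right _ _)

theorem exists_conj_center {x : G} (hx : x ∈ (S : Subgroup G)) :
    ∃ g : G, g * x * g⁻¹ ∈ (S : Subgroup G) ∧
      ∀ s ∈ (S : Subgroup G), s * (g * x * g⁻¹) = g * x * g⁻¹ * s := by
  obtain ⟨Q, hQ⟩ := h x (exists_pow_of_mem S hx)
  have hxQ : x ∈ (Q : Subgroup G) := by
    -- a 2-element commuting with a Sylow 2-subgroup lies in it
    have hn : zpowers x ≤ normalizer ((Q : Subgroup G) : Set G) := by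
      rw [zpowers_le, mem_normalizer_iff]
      intro q
      constructor
      · intro hq
        rw [← mem_centralizer_singleton_iff.1 (hQ hq), mul_inv_cancel_right]
        exact hq
      · intro hq
        have h1 := mem_centralizer_singleton_iff.1 (hQ hq)
        rw [inv_mul_cancel_right] at h1
        have : x * q * x⁻¹ = q := by
          have h2 : x * q = x * (x * q * x⁻¹) := h1
          exact (mul_left_cancel h2).symm
        rwa [this] at hq
    have hp : IsPGroup 2 (zpowers x) := S.2.to_le (zpowers_le.2 hx)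
    have := Q.3 (Q.2.to_sup_of_normal_left' hp hn) le_sup_left
    rw [← this]
    exact le_sup_right (α := Subgroup G) (mem_zpowers x)
  obtain ⟨g, hg⟩ := MulAction.exists_smul_eq G Q S
  refine ⟨g, ?_, fun s hs => ?_⟩
  · rw [← hg]
    exact ⟨x, hxQ, rfl⟩
  · rw [← hg] at hs
    obtain ⟨q, hq, rfl⟩ := hs
    have h1 := mem_centralizer_singleton_iff.1 (hQ hq)
    show MulAut.conj g q * MulAut.conj g x = MulAut.conj g x * MulAut.conj g q
    rw [← map_mul, ← map_mul, h1]

/-- Fusion into the center is realised in the normalizer of `Ω`. -/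
theorem exists_normalizer_conj_center {x : G} (hx : x ∈ (S : Subgroup G)) :
    ∃ m ∈ normalizer (omegaS h S : Set G), m * x * m⁻¹ ∈ (S : Subgroup G) ∧
      ∀ s ∈ (S : Subgroup G), s * (m * x * m⁻¹) = m * x * m⁻¹ * s := by
  obtain ⟨g, hgS, hgc⟩ := exists_conj_center h S hx
  obtain ⟨m, hm, he⟩ := ctl h S (A := zpowers x) (g := g) (zpowers_le.2 hx)
    (by rw [MonoidHom.map_zpowers, zpowers_le]; exact hgS)
  exact ⟨m, hm, by rw [← he x (mem_zpowers x)]; exact ⟨hgS, hgc⟩⟩

end

theorem comm_aux (n : ℕ) : ∀ (G : Type u) [Group G] [Finite G], Nat.card G ≤ n → Hyp G →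
    ∀ S : Sylow 2 G, ∀ a ∈ (S : Subgroup G), ∀ b ∈ (S : Subgroup G), a * b = b * a := by
  induction n with
  | zero => intro G _ _ hn; exact absurd (Nat.le_zero.1 hn) Nat.card_pos.ne'
  | succ n ih =>
    intro G _ _ hn h S
    by_cases hS1 : (S : Subgroup G) = ⊥
    · intro a ha b hb
      rw [hS1, mem_bot] at ha hb
      rw [ha, hb]
    set Ω := omegaS h S with hΩ
    -- `Ω` is central in `S`
    have hΩZ : ∀ x ∈ (S : Subgroup G), ∀ w ∈ Ω, x * w = w * x := by
      intro x hx w hw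
      obtain ⟨m, hm, -, hmc⟩ := exists_normalizer_conj_center h S hx
      have hw' : m * w * m⁻¹ ∈ Ω := (mem_normalizer_iff.1 hm w).1 hw
      have h1 := hmc _ hw'.1
      have h2 : m * (w * x) * m⁻¹ = m * (x * w) * m⁻¹ := by
        calc m * (w * x) * m⁻¹ = m * w * m⁻¹ * (m * x * m⁻¹) := by group
          _ = m * x * m⁻¹ * (m * w * m⁻¹) := h1
          _ = m * (x * w) * m⁻¹ := by group
      exact (mul_left_cancel (mul_right_cancel h2)).symm
    -- pass to the centralizer of `Ω`
    set H := centralizer (Ω : Set G) with hH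
    have hSH : (S : Subgroup G) ≤ H := fun x hx =>
      mem_centralizer_iff.2 fun w hw => (hΩZ x hx w hw).symm
    let T : Sylow 2 H := S.subtype hSH
    have hHyp : Hyp H := by
      intro y hy
      have hpy : IsPGroup 2 (zpowers y) := by
        obtain ⟨k, hk⟩ := hy
        exact IsPGroup.of_card (n := k) (by rw [Nat.card_zpowers, hk])
      obtain ⟨R, hR⟩ := hpy.exists_le_sylow
      obtain ⟨c, hc⟩ := MulAction.exists_smul_eq H R T
      have hx : ((c * y * c⁻¹ : H) : G) ∈ (S : Subgroup G) := by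
        have : c * y * c⁻¹ ∈ (T : Subgroup H) := by
          rw [← hc]
          exact ⟨y, hR (mem_zpowers y), rfl⟩
        exact this
      obtain ⟨m, hm, -, hmc⟩ := exists_normalizer_conj_center h S hx
      -- `m⁻¹ S m` lies in `H` and centralizes `c y c⁻¹`
      have hmS : m⁻¹ ⋆ (S : Subgroup G) ≤ H := by
        refine cj_le_iff.2 fun s hs => mem_centralizer_iff.2 fun w hw => ?_
        have h1 := hΩZ s hs _ ((mem_normalizer_iff.1 hm w).1 hw)
        calc w * (m⁻¹ * s * m⁻¹⁻¹) = m⁻¹ * (m * w * m⁻¹ * s) * m := by group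
          _ = m⁻¹ * (s * (m * w * m⁻¹)) * m := by rw [h1]
          _ = m⁻¹ * s * m⁻¹⁻¹ * w := by group
      let S' : Sylow 2 G := m⁻¹ • S
      have hS'H : (S' : Subgroup G) ≤ H := hmS
      refine ⟨c⁻¹ • S'.subtype hS'H, fun z hz => ?_⟩
      obtain ⟨q, hq, rfl⟩ := hz
      obtain ⟨s, hs, hsq⟩ : ∃ s ∈ (S : Subgroup G), m⁻¹ * s * m⁻¹⁻¹ = (q : G) := hq
      rw [mem_centralizer_singleton_iff]
      apply Subtype.ext
      show (c⁻¹ : G) * q * (c⁻¹ : G)⁻¹ * y = y * ((c⁻¹ : G) * q * (c⁻¹ : G)⁻¹)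
      have h1 := hmc s hs
      simp only [coe_mul, coe_inv] at h1 ⊢
      rw [← hsq]
      calc (c : G)⁻¹ * (m⁻¹ * s * m⁻¹⁻¹) * (c : G)⁻¹⁻¹ * y
          = (c : G)⁻¹ * m⁻¹ * (s * (m * ((c : G) * y * (c : G)⁻¹) * m⁻¹)) * m * c := by group
        _ = (c : G)⁻¹ * m⁻¹ * ((m * ((c : G) * y * (c : G)⁻¹) * m⁻¹) * s) * m * c := by rw [h1]
        _ = _ := by group
    -- the quotient by `Ω`
    have hΩH : Ω ≤ H := (omegaS_le h S).trans hSH
    let N : Subgroup H := Ω.subgroupOf H
    have hNc : ∀ w ∈ N, ∀ z : H, z * w = w * z := fun w hw z =>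
      Subtype.ext (mem_centralizer_iff.1 z.2 w hw).symm
    have hN : N.Normal := ⟨fun w hw z => by rwa [hNc w hw z, mul_inv_cancel_right]⟩
    let f := QuotientGroup.mk' N
    have hf : Function.Surjective f := QuotientGroup.mk'_surjective N
    have hNne : N ≠ ⊥ := by
      obtain ⟨x, hx, hx1⟩ := (S : Subgroup G).bot_or_exists_ne_one.resolve_left hS1
      obtain ⟨k, hk⟩ := exists_pow_of_mem S hx
      obtain ⟨j, rfl⟩ : ∃ j, k = j + 1 := by
        refine Nat.exists_eq_succ_of_ne_zero fun hk0 => hx1 ?_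
        rw [← orderOf_eq_one_iff, hk, hk0, pow_zero]
      intro hbot
      have hmem : x ^ 2 ^ j ∈ Ω := ⟨pow_mem hx _, by
        rw [← pow_add, ← two_mul, ← pow_succ', ← hk, pow_orderOf_eq_one]⟩
      have hn0 : (⟨x ^ 2 ^ j, hΩH hmem⟩ : H) ∈ N := hmem
      rw [hbot, mem_bot, Subtype.ext_iff] at hn0
      have := orderOf_dvd_of_pow_eq_one (hn0 : x ^ 2 ^ j = 1)
      rw [hk, Nat.pow_dvd_pow_iff_le_right one_lt_two] at this
      omega
    have hcard : Nat.card (H ⧸ N) ≤ n := by
      have h1 := card_eq_card_quotient_mul_card_subgroup N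
      have h2 : 2 ≤ Nat.card N := (one_lt_card_iff_ne_bot _).2 hNne
      have h3 : Nat.card H ≤ Nat.card G := card_le_card_group H
      have h4 : 0 < Nat.card (H ⧸ N) := Nat.card_pos
      nlinarith
    have hq : Hyp (H ⧸ N) := by
      intro z hz
      obtain ⟨k, hk⟩ := hz
      have hpz : IsPGroup 2 (zpowers z) := IsPGroup.of_card (n := k) (by rw [Nat.card_zpowers, hk])
      obtain ⟨R, hR⟩ := hpz.exists_le_sylow
      obtain ⟨c, hc⟩ := MulAction.exists_smul_eq (H ⧸ N) (T.mapSurjective hf) R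
      have hzc : z ∈ ((c • T.mapSurjective hf : Sylow 2 (H ⧸ N)) : Subgroup (H ⧸ N)) := by
        rw [hc]; exact hR (mem_zpowers z)
      obtain ⟨c', rfl⟩ := hf c
      obtain ⟨u, hu, huz⟩ := hzc
      obtain ⟨y, hy, rfl⟩ := hu
      obtain ⟨j, hj⟩ := exists_pow_of_mem T hy
      obtain ⟨Q, hQ⟩ := hHyp (c' * y * c'⁻¹) ⟨j, by
        rw [← hj]
        exact orderOf_injective (MulAut.conj c').toMonoidHom (MulEquiv.injective _) y⟩
      refine ⟨Q.mapSurjective hf, ?_⟩
      rintro _ ⟨q, hq, rfl⟩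
      rw [mem_centralizer_singleton_iff, ← huz]
      show f q * (f c' * f y * (f c')⁻¹) = f c' * f y * (f c')⁻¹ * f q
      rw [← map_inv, ← map_mul, ← map_mul, ← map_mul, ← map_mul,
        mem_centralizer_singleton_iff.1 (hQ hq)]
    have hab := ih (H ⧸ N) hcard hq (T.mapSurjective hf)
    have memT : ∀ z : H, f z ∈ (T.mapSurjective hf : Subgroup (H ⧸ N)) → (z : G) ∈ (S : Subgroup G) := by
      rintro z ⟨u, hu, hue⟩
      have hzN : u⁻¹ * z ∈ N := QuotientGroup.eq.1 hue
      have h2 := mul_mem (show (u : G) ∈ (S : Subgroup G) from hu) (omegaS_le h S hzN)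
      simpa using h2
    intro a ha b hb
    let a' : H := ⟨a, hSH ha⟩
    have haT : a' ∈ (T : Subgroup H) := ha
    obtain ⟨z, hz, hzc⟩ := exists_conj_center hHyp T haT
    -- Burnside's lemma in the quotient
    have hx1 : f a' ∈ centralizer ((T.mapSurjective hf : Sylow 2 (H ⧸ N)) : Set (H ⧸ N)) :=
      mem_centralizer_iff.2 fun u hu => hab u hu _ ⟨a', haT, rfl⟩
    have hx2 : (f z)⁻¹⁻¹ * f a' * (f z)⁻¹ ∈
        centralizer ((T.mapSurjective hf : Sylow 2 (H ⧸ N)) : Set (H ⧸ N)) := by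
      rw [inv_inv, ← map_inv, ← map_mul, ← map_mul]
      exact mem_centralizer_iff.2 fun u hu => hab u hu _ ⟨_, hz, rfl⟩
    obtain ⟨v, hv, hve⟩ :=
      Sylow.conj_eq_normalizer_conj_of_mem_centralizer (T.mapSurjective hf) _ _ hx1 hx2
    obtain ⟨v', rfl⟩ := hf v
    have hv'S : ∀ s : H, (s : G) ∈ (S : Subgroup G) ↔
        ((v' * s * v'⁻¹ : H) : G) ∈ (S : Subgroup G) := fun s => by
      constructor
      · intro hs
        apply memT
        rw [map_mul, map_mul, map_inv]
        exact (mem_normalizer_iff.1 hv (f s)).1 ⟨s, hs, rfl⟩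
      · intro hs
        apply memT
        refine (mem_normalizer_iff.1 hv (f s)).2 ?_
        rw [← map_inv, ← map_mul, ← map_mul]
        exact ⟨_, hs, rfl⟩
    have hwN : (v'⁻¹ * a' * v')⁻¹ * (z * a' * z⁻¹) ∈ N := by
      apply QuotientGroup.eq.1
      show f (v'⁻¹ * a' * v') = f (z * a' * z⁻¹)
      simp only [map_mul, map_inv]
      rw [← hve, inv_inv]
    obtain ⟨w, hw, hwe⟩ : ∃ w ∈ N, z * a' * z⁻¹ = v'⁻¹ * a' * v' * w :=
      ⟨_, hwN, (mul_inv_cancel_left _ _).symm⟩
    -- `a'` is congruent to a conjugate of a central element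
    have hcent : ∀ s : H, (s : G) ∈ (S : Subgroup G) → s * a' = a' * s := by
      intro s hs
      have h1 : (v'⁻¹ * s * v' : H).1 ∈ (S : Subgroup G) := by
        rw [hv'S]
        simpa [mul_assoc] using hs
      have h2 := hzc _ (show v'⁻¹ * s * v' ∈ (T : Subgroup H) from h1)
      rw [hwe] at h2
      have hcw := hNc w hw
      apply mul_left_cancel (a := v'⁻¹)
      apply mul_right_cancel (b := v')
      apply mul_right_cancel (b := w)
      calc v'⁻¹ * (s * a') * v' * w = v'⁻¹ * s * v' * (v'⁻¹ * a' * v' * w) := by group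
        _ = v'⁻¹ * a' * v' * w * (v'⁻¹ * s * v') := h2
        _ = v'⁻¹ * a' * v' * ((v'⁻¹ * s * v') * w) := by rw [mul_assoc _ w, ← hcw]
        _ = v'⁻¹ * (a' * s) * v' * w := by group
    exact congrArg Subtype.val (hcent ⟨b, hSH hb⟩ hb).symm

/-- Camina–Herzog for the prime 2. -/
theorem sylowTwo_comm [Finite G] (h : Hyp G) (S : Sylow 2 G) :
    IsMulCommutative (S : Subgroup G) :=
  ⟨⟨fun a b => Subtype.ext (comm_aux (Nat.card G) G le_rfl h S a a.2 b b.2)⟩⟩

end CfsgLib.CentralConj
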